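import Cfsg.Prelude.Def_KGroupFacts
import Cfsg.Agent.FTDown.AutFixing

/-!
Solvability of the outer automorphism group from the automiser of a Sylow `2`-subgroup.
-/

set_option autoImplicit false

namespace Cfsg.Agent.OutSolv23

open Cfsg Subgroup

universe u

variable {G : Type u} [Group G]

/-- Automorphisms of `G` mapping `S` onto itself. -/
def stab (S : Subgroup G) : Subgroup (MulAut G) where
  carrier := {φ | ∀ x, φ x ∈ S ↔ x ∈ S}
  one_mem' := fun _ => Iff.rfl
  mul_mem' := fun {a b} ha hb x => by rw [MulAut.mul_apply, ha, hb]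
  inv_mem' := fun {a} ha x => by rw [← ha (a⁻¹ x), MulAut.apply_inv_self]

theorem mem_stab {S : Subgroup G} {φ : MulAut G} : φ ∈ stab S ↔ ∀ x, φ x ∈ S ↔ x ∈ S := Iff.rfl

/-- Restriction of stabilising automorphisms to `S`. -/
def res (S : Subgroup G) : ↥(stab S) →* MulAut ↥S where
  toFun φ :=
    { toFun := fun s => ⟨φ.1 s, (φ.2 s).2 s.2⟩
      invFun := fun s => ⟨φ.1⁻¹ s, ((φ⁻¹).2 s).2 s.2⟩
      left_inv := fun s => Subtype.ext (MulAut.inv_apply_self G φ.1 s)
      right_inv := fun s => Subtype.ext (MulAut.apply_inv_self G φ.1 s)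
      map_mul' := fun s t => Subtype.ext (map_mul φ.1 (s : G) t) }
  map_one' := rfl
  map_mul' _ _ := rfl

theorem res_apply (S : Subgroup G) (φ : ↥(stab S)) (s : ↥S) : ((res S φ s : ↥S) : G) = φ.1 s := rfl

theorem stab_solvable [Finite G] (hFT : OddOrderGlue.FeitThompson.{u})
    (hO : ∀ N : Subgroup G, N.Normal → Odd (Nat.card N) → N = ⊥) (S : Sylow 2 G)
    (hR : Group.IsSolvable ↥(res (S : Subgroup G)).range) :
    Group.IsSolvable ↥(stab (S : Subgroup G)) := by
  haveI := hR
  let C := Components.fixingSubgroup' (S : Subgroup G)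
  haveI : Group.IsSolvable ↥C :=
    (FTDown.fixing_sylow_structure hFT hO S C fun _ => Iff.rfl).2
  haveI : Group.IsSolvable ↥(res (S : Subgroup G)).ker := by
    let f : ↥(res (S : Subgroup G)).ker →* ↥C :=
      ((stab (S : Subgroup G)).subtype.comp (Subgroup.subtype _)).codRestrict C fun φ s hs => by
        have h := congrArg (fun a : MulAut ↥(S : Subgroup G) => ((a ⟨s, hs⟩ : ↥(S : Subgroup G)) : G))
          φ.2
        exact h
    exact Group.isSolvable_of_isSolvable_injective (f := f) fun a b h =>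
      Subtype.ext (Subtype.ext (congrArg (fun x : ↥C => (x : MulAut G)) h))
  exact Group.isSolvable_of_ker_le_range (res (S : Subgroup G)).ker.subtype
    (res (S : Subgroup G)).rangeRestrict
    (by rw [MonoidHom.ker_rangeRestrict, range_subtype])

theorem stab_to_out_surjective [Finite G] (S : Sylow 2 G) :
    Function.Surjective ((QuotientGroup.mk' (Inn G)).comp (stab (S : Subgroup G)).subtype) := by
  haveI : Fact (Nat.Prime 2) := ⟨Nat.prime_two⟩
  intro q
  obtain ⟨φ, rfl⟩ := QuotientGroup.mk'_surjective (Inn G) q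
  have hT : IsPGroup 2 ↥((S : Subgroup G).map φ.toMonoidHom) := S.2.map _
  obtain ⟨T, hle⟩ := hT.exists_le_sylow
  have hTe : (S : Subgroup G).map φ.toMonoidHom = T := by
    refine eq_of_le_of_card_ge hle ?_
    rw [card_map_of_injective φ.injective, S.card_eq_multiplicity, T.card_eq_multiplicity]
  obtain ⟨g, hg⟩ := MulAction.exists_smul_eq G T S
  have hmem : MulAut.conj g * φ ∈ stab (S : Subgroup G) := by
    intro x
    have hx : φ x ∈ (T : Subgroup G) ↔ x ∈ (S : Subgroup G) := by
      rw [← hTe]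
      exact mem_map_iff_mem φ.injective
    rw [← hx, MulAut.mul_apply, ← hg, Sylow.smul_def, Sylow.pointwise_smul_def]
    constructor
    · intro h
      have h2 := Subgroup.mem_pointwise_smul_iff_inv_smul_mem.1 h
      simpa [MulAut.smul_def, mul_assoc] using h2
    · intro h
      exact Subgroup.smul_mem_pointwise_smul _ _ _ h
  refine ⟨⟨_, hmem⟩, ?_⟩
  simp only [MonoidHom.coe_comp, Function.comp_apply, coe_subtype, map_mul]
  rw [show QuotientGroup.mk' (Inn G) (MulAut.conj g) = 1 from
    (QuotientGroup.eq_one_iff (N := Inn G) (MulAut.conj g)).2 ⟨g, rfl⟩, one_mul]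

theorem odd_normal_eq_bot [Finite G] [IsSimpleGroup G] (S : Sylow 2 G)
    (hS1 : (S : Subgroup G) ≠ ⊥) (N : Subgroup G) (hN : N.Normal) (ho : Odd (Nat.card N)) :
    N = ⊥ := by
  haveI : Fact (Nat.Prime 2) := ⟨Nat.prime_two⟩
  refine hN.eq_bot_or_eq_top.resolve_right fun h => ?_
  subst h
  rw [card_top] at ho
  obtain ⟨k, hk⟩ := IsPGroup.iff_card.1 S.2
  have h1 : (S : Subgroup G) = ⊥ := card_eq_one.1 (by
    rcases k with _ | k
    · simpa using hk
    · exfalso
      have hd := (S : Subgroup G).card_subgroup_dvd_card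
      rw [hk] at hd
      exact (Nat.not_even_iff_odd.2 ho)
        (even_iff_two_dvd.2 ((dvd_pow_self 2 k.succ_ne_zero).trans hd)))
  exact hS1 h1

/-- `Out G` is solvable as soon as the automorphisms induced on a Sylow `2`-subgroup by its
stabiliser form a solvable group. -/
theorem out_solvable_of_res [Finite G] [IsSimpleGroup G] (hFT : OddOrderGlue.FeitThompson.{u})
    (S : Sylow 2 G) (hS1 : (S : Subgroup G) ≠ ⊥)
    (hR : Group.IsSolvable ↥(res (S : Subgroup G)).range) :
    Group.IsSolvable (Out G) := by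
  haveI := stab_solvable hFT (odd_normal_eq_bot S hS1) S hR
  exact Group.isSolvable_of_surjective (stab_to_out_surjective S)

theorem out_solvable_of_aut [Finite G] [IsSimpleGroup G] (hFT : OddOrderGlue.FeitThompson.{u})
    (S : Sylow 2 G) (hS1 : (S : Subgroup G) ≠ ⊥)
    (hS : Group.IsSolvable (MulAut ↥(S : Subgroup G))) :
    Group.IsSolvable (Out G) := by
  haveI := hS
  exact out_solvable_of_res hFT S hS1
    (Group.isSolvable_of_isSolvable_injective (f := (res (S : Subgroup G)).range.subtype)
      Subtype.coe_injective)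

end Cfsg.Agent.OutSolv23
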